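import Groth.Agent.CycPB.LinCls
import Groth.Agent.CycPB.Degree
import Groth.Agent.WeilLib.Trdeg
import Groth.Agent.P1Div.Delta
import Groth.Agent.S1855
import Groth.Agent.CycPB.Tower
import Groth.Agent.CurveP1.Basic
import Groth.Agent.TMul.AffineLocus
import Groth.Agent.FreeCurve.Uniruled
import Groth.Prelude.Def_RelProj

/-!
# Points on rational curves meeting a connected curve of rational curves are rationally equivalent
-/

set_option autoImplicit false
set_option linter.style.haveILetI false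
set_option backward.isDefEq.respectTransparency false
set_option backward.isDefEq.respectTransparency.types false
set_option synthInstance.maxHeartbeats 400000
set_option maxHeartbeats 1000000

universe u

open CategoryTheory CategoryTheory.Limits AlgebraicGeometry TopologicalSpace
open Groth.Agent.CycPB

noncomputable section

namespace Groth.Agent.RatCurveZero

variable {k : Type u} [Field k] [IsAlgClosed k] {X Y : Scheme.{u}}

/-- Closed points have dimension zero. -/
theorem delta_closed (q : X ⟶ Spec (CommRingCat.of k)) [LocallyOfFiniteType q] {δ : X → ℤ}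
    (hδ : Cyc.DeltaCompat q δ (fun _ => 0)) {x : X} (hx : IsClosed ({x} : Set X)) : δ x = 0 := by
  rw [WeilLib.eq_pdim_of_deltaCompat q δ hδ, (WeilLib.pdim_eq_zero_iff q x).2 hx]
  rfl

/-- A morphism over an algebraically closed field has residue degree one at rational points. -/
theorem residueDegree_closed (q : X ⟶ Spec (CommRingCat.of k)) [LocallyOfFiniteType q]
    (qY : Y ⟶ Spec (CommRingCat.of k)) (g : X ⟶ Y) (hg : g ≫ qY = q) {x : X} (hx : IsClosed ({x} : Set X)) :
    g.residueDegree x = 1 := by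
  refine CycDeg.residueDegree_eq_one g (x := x) fun b => ?_
  obtain ⟨a, ha⟩ := (WeilLib.kStr_bijective q hx).2 b
  exact ⟨WeilLib.kStr qY (g x) a, (RingHom.congr_fun (WeilLib.kStr_comp q g qY hg x) a).trans ha⟩

omit [IsAlgClosed k] in
theorem deg_smul (c : X ⟶ Spec (CommRingCat.of k)) (δ : X → ℤ) (l a : ℤ) (b : X → ℤ) :
    CycPB.deg c δ l (fun x => a * b x) = a * CycPB.deg c δ l b := by
  show (∑ᶠ x, a * b x * _) = a * ∑ᶠ x, b x * _
  rw [mul_finsum]
  exact finsum_congr fun x => mul_assoc _ _ _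

/-- Closed points of the projective line are rationally equivalent. -/
theorem ratEquiv_line {δ : CohB1.ProjSpace 1 k → ℤ}
    (hδ : Cyc.DeltaCompat (CohB1.ProjSpace.toSpec 1 k) δ (fun _ => 0)) {w w' : CohB1.ProjSpace 1 k}
    (hw : IsClosed ({w} : Set (CohB1.ProjSpace 1 k))) (hw' : IsClosed ({w'} : Set (CohB1.ProjSpace 1 k))) :
    Cyc.RatEquiv δ 0 (CycRat.pt w) (CycRat.pt w') := by
  classical
  haveI := ProjMor.isProper_toSpec 1 k
  haveI := (isSetup_over_field (CohB1.ProjSpace.toSpec 1 k) hδ).1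
  let O := Twist.twistProjSpace 1 k 1
  have hO : PicF.IsInvertible O :=
    GrT.isInvertible_twist (ProjMor.exists_notMem (ProjMor.genDegOne_projSpace 1 k)) 1
  obtain ⟨s, hs⟩ := exists_sections hO
  have hdeg := degree 1 O ⟨Iso.refl _⟩ δ 0 hδ (fun _ => s) (fun _ => hs)
  have key : ∀ v, IsClosed ({v} : Set (CohB1.ProjSpace 1 k)) → RZ δ 0 fun x => ptF v x -
      Cyc.c1PowFun δ O (fun _ => s) 1
        (Cyc.pullFun (CohB1.ProjSpace.toSpec 1 k) δ (fun _ => 0) (1 : ℕ) fun _ => 1) x := by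
    intro v hv
    obtain ⟨a, m, hm, hvδ, hr⟩ := exists_linear 1 O ⟨Iso.refl _⟩ δ 0 hδ (fun _ => s) (fun _ => hs) v
    have h0 := delta_closed _ hδ hv
    obtain rfl : m = 1 := by omega
    rw [h0] at hr
    set G := Cyc.c1PowFun δ O (fun _ => s) 1
      (Cyc.pullFun (CohB1.ProjSpace.toSpec 1 k) δ (fun _ => 0) (1 : ℕ) fun _ => 1)
    obtain ⟨A, hA, hAk, hA'⟩ := hr
    have hcy : Cy δ 0 fun x => a * G x := by
      have h1 := (cy_ptF δ v)
      rw [h0] at h1
      refine Eq.mp (congrArg (Cy δ 0) (funext fun x => ?_)) (h1.sub (⟨A, hA, hAk⟩ : Cy δ 0 _))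
      show ptF v x - (ptF v x - a * G x) = a * G x
      ring
    obtain ⟨B, hB, -⟩ := hcy
    have hd := deg_eq_of_ratEquiv (CohB1.ProjSpace.toSpec 1 k) hδ (CycRat.pt v) B
      (CycRat.ratEquivZero_of_eq hA' fun x => by
        show CycRat.pt v x - B x = A x
        rw [congrFun hB x, congrFun hA x]
        rfl)
    rw [hB, deg_smul, hdeg, mul_one] at hd
    have h1 : CycPB.deg (CohB1.ProjSpace.toSpec 1 k) δ 0 ⇑(CycRat.pt v) = 1 := by
      show (∑ᶠ x, CycRat.pt v x * _) = 1
      rw [finsum_eq_single _ v fun x hx => by rw [CycRat.pt_apply, if_neg hx, zero_mul],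
        CycRat.pt_apply, if_pos rfl, one_mul]
      unfold AlgebraicCycle.mapCoeff
      rw [if_pos h0, residueDegree_closed (CohB1.ProjSpace.toSpec 1 k) (𝟙 _) _ (Category.comp_id _) hv]
      rfl
    rw [h1] at hd
    refine ⟨A, hA.trans (funext fun x => ?_), hAk, hA'⟩
    rw [← hd, one_mul]
  have h := ((key w hw).sub (key w' hw')).eq (b := fun x => CycRat.pt w x - CycRat.pt w' x)
    (funext fun x => by show ptF w x - _ - (ptF w' x - _) = _; rw [show ptF w x = CycRat.pt w x from rfl,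
      show ptF w' x = CycRat.pt w' x from rfl]; ring)
  exact h.ratEquiv

/-- Two closed points on a rational curve are rationally equivalent. -/
theorem ratEquiv_curve (q : X ⟶ Spec (CommRingCat.of k)) [LocallyOfFiniteType q] [IsSeparated q] {δ : X → ℤ}
    (hδ : Cyc.DeltaCompat q δ (fun _ => 0)) (g : CohB1.ProjSpace 1 k ⟶ X)
    (hg : g ≫ q = CohB1.ProjSpace.toSpec 1 k) {x y : X} (hx : IsClosed ({x} : Set X)) (hy : IsClosed ({y} : Set X))
    (hxg : x ∈ Set.range g) (hyg : y ∈ Set.range g) : Cyc.RatEquiv δ 0 (CycRat.pt x) (CycRat.pt y) := by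
  classical
  haveI := ProjMor.isProper_toSpec 1 k
  haveI : IsProper (g ≫ q) := by rw [hg]; infer_instance
  haveI : IsProper g := IsProper.of_comp g q
  haveI : JacobsonSpace (CohB1.ProjSpace 1 k) := LocallyOfFiniteType.jacobsonSpace (CohB1.ProjSpace.toSpec 1 k)
  obtain ⟨δ₁, hδ₁⟩ := P1Div.exists_deltaCompat g δ
  have hδ₁' : Cyc.DeltaCompat (CohB1.ProjSpace.toSpec 1 k) δ₁ (fun _ => 0) := by
    have := deltaCompat_trans hδ₁ hδ
    rwa [hg] at this
  have hlift : ∀ z, IsClosed ({z} : Set X) → z ∈ Set.range g →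
      ∃ w, IsClosed ({w} : Set (CohB1.ProjSpace 1 k)) ∧ g w = z := by
    rintro z hz ⟨w₀, hw₀⟩
    obtain ⟨w, hwz, hw⟩ := nonempty_inter_closedPoints (Z := g ⁻¹' {z}) ⟨w₀, hw₀⟩
      (hz.preimage g.continuous).isLocallyClosed
    exact ⟨w, hw, hwz⟩
  obtain ⟨w, hw, rfl⟩ := hlift x hx hxg
  obtain ⟨w', hw', rfl⟩ := hlift y hy hyg
  have hZ : ∀ v, IsClosed ({v} : Set (CohB1.ProjSpace 1 k)) → CycRat.pt v ∈ Cyc.Zk _ δ₁ 0 := fun v hv z hz => by
    rw [CycRat.pt_apply, if_neg]
    rintro rfl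
    exact hz (delta_closed _ hδ₁' hv)
  have h := Groth.Agent.S1855.result _ X δ₁ δ (isSetup_over_field _ hδ₁') (isSetup_over_field q hδ) g hδ₁ 0 _ _
    (hZ w hw) (hZ w' hw') (ratEquiv_line hδ₁' hw hw')
  have hmap : ∀ v, IsClosed ({v} : Set (CohB1.ProjSpace 1 k)) → IsClosed ({g v} : Set X) →
      AlgebraicCycle.map g δ₁ δ (CycRat.pt v) = CycRat.pt (g v) := fun v hv hgv => by
    refine DFunLike.ext _ _ fun z => ?_
    show (∑ᶠ u ∈ (g ⁻¹' {z} : Set _), CycRat.pt v u * _) = _
    rw [CycRat.pt_apply]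
    by_cases hz : z = g v
    · rw [if_pos hz, finsum_mem_def, finsum_eq_single _ v fun u hu => by
        simp [Set.indicator_apply, CycRat.pt_apply, hu]]
      rw [Set.indicator_of_mem (by subst hz; rfl), CycRat.pt_apply, if_pos rfl, one_mul]
      unfold AlgebraicCycle.mapCoeff
      beta_reduce
      rw [if_pos ((delta_closed _ hδ₁' hv).trans (delta_closed q hδ hgv).symm), residueDegree_closed _ q g hg hv]
      rfl
    · rw [if_neg hz]
      refine finsum_mem_eq_zero_of_forall_eq_zero fun u hu => ?_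
      rw [CycRat.pt_apply, if_neg fun e : u = v => hz (by rw [← e]; exact (show g u = z from hu).symm), zero_mul]
  rwa [hmap w hw hx, hmap w' hw' hy] at h

/-- Nonclosed points of a proper closed subset of a surface are maximal in it. -/
theorem eq_of_specializes_surface [IsIntegral X] (hdim : topologicalKrullDim X ≤ 2) {η η' : X}
    (h : η' ⤳ η) (hη : ¬ IsClosed ({η} : Set X)) (hη' : η' ≠ genericPoint X) : η' = η := by
  classical
  by_contra hne
  obtain ⟨z, hz, hzη⟩ : ∃ z, η ⤳ z ∧ z ≠ η := by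
    by_contra hc
    push Not at hc
    refine hη ?_
    rw [← closure_subset_iff_isClosed]
    exact fun z hz => hc z (specializes_iff_mem_closure.2 hz)
  let F : X → IrreducibleCloseds X := fun p => ⟨closure {p}, isIrreducible_singleton.closure, isClosed_closure⟩
  have hlt : ∀ {p q : X}, p ⤳ q → p ≠ q → F q < F p := fun {p q} hpq hne =>
    lt_of_le_of_ne (show closure {q} ⊆ closure {p} from
      closure_minimal (Set.singleton_subset_iff.2 hpq.mem_closure) isClosed_closure) fun e => hne <| by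
      have e' : closure ({q} : Set X) = closure {p} := congrArg (fun T : IrreducibleCloseds X => (T : Set X)) e
      exact (inseparable_iff_closure_eq.2 e'.symm).eq
  let c : LTSeries (IrreducibleCloseds X) :=
    (((RelSeries.singleton _ (F z)).snoc (F η) (hlt hz hzη.symm)).snoc (F η') (by
      rw [RelSeries.last_snoc]; exact hlt h hne)).snoc (F (genericPoint X)) (by
      rw [RelSeries.last_snoc]; exact hlt (genericPoint_specializes η') hη'.symm)
  have h1 : ((c.length : ℕ∞) : WithBot ℕ∞) ≤ topologicalKrullDim X := Order.LTSeries.length_le_krullDim c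
  have h2 := h1.trans hdim
  rw [show c.length = 3 from rfl] at h2
  exact absurd h2 (by decide)

/-- **Points on rational curves meeting an ample connected union of rational curves.** -/
theorem ratEquiv_points (q : X ⟶ Spec (CommRingCat.of k)) [IsProper q] [IsIntegral X]
    (hdim : topologicalKrullDim X ≤ 2) (L : X.Modules) (hL : CohB1.IsAmple L) (s : Coh.structureModule X ⟶ L)
    (hs : (CohB1.genLocus L s : Set X).Nonempty) (hconn : _root_.IsConnected ((CohB1.genLocus L s : Set X)ᶜ))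
    (hrat : ∀ h ∈ ((CohB1.genLocus L s : Set X)ᶜ), IsClosed ({h} : Set X) → ∃ g : CohB1.ProjSpace 1 k ⟶ X,
      g ≫ q = CohB1.ProjSpace.toSpec 1 k ∧ (Set.range ⇑g).Nontrivial ∧ h ∈ Set.range ⇑g ∧
        Set.range ⇑g ⊆ (CohB1.genLocus L s : Set X)ᶜ)
    {δ : X → ℤ} (hδ : Cyc.DeltaCompat q δ (fun _ => 0)) {x y : X} (hx : IsClosed ({x} : Set X))
    (hy : IsClosed ({y} : Set X))
    (hxr : ∃ g : CohB1.ProjSpace 1 k ⟶ X, g ≫ q = CohB1.ProjSpace.toSpec 1 k ∧ (Set.range ⇑g).Nontrivial ∧ x ∈ Set.range ⇑g)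
    (hyr : ∃ g : CohB1.ProjSpace 1 k ⟶ X, g ≫ q = CohB1.ProjSpace.toSpec 1 k ∧ (Set.range ⇑g).Nontrivial ∧ y ∈ Set.range ⇑g) :
    Cyc.RatEquiv δ 0 (CycRat.pt x) (CycRat.pt y) := by
  classical
  haveI : JacobsonSpace X := LocallyOfFiniteType.jacobsonSpace q
  haveI : IsLocallyNoetherian X := LocallyOfFiniteType.isLocallyNoetherian q
  haveI : CompactSpace X := QuasiCompact.compactSpace_of_compactSpace q
  haveI : IsNoetherian X := {}
  haveI := ProjMor.isProper_toSpec 1 k
  set H : Set X := (CohB1.genLocus L s : Set X)ᶜ with hH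
  have hHc : IsClosed H := (CohB1.genLocus L s).2.isClosed_compl
  have hgenH : genericPoint X ∉ H := fun h => h (((genericPoint_spec X).mem_open_set_iff (CohB1.genLocus L s).2).2
    (by rw [Set.univ_inter]; exact hs))
  let P : X → X → Prop := fun a b => Cyc.RatEquiv δ 0 (CycRat.pt a) (CycRat.pt b)
  have htrans : ∀ {a b c : X}, P a b → P b c → P a c := fun {a b c} h1 h2 =>
    CycRat.ratEquivZero_add h1 h2 fun z => (sub_add_sub_cancel _ _ _).symm
  have hsymm : ∀ {a b : X}, P a b → P b a := fun {a b} h1 =>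
    CycRat.ratEquivZero_neg h1 fun z => (neg_sub _ _).symm
  have hcl : ∀ g : CohB1.ProjSpace 1 k ⟶ X, g ≫ q = CohB1.ProjSpace.toSpec 1 k → IsClosed (Set.range g) :=
    fun g hg => by
      haveI : IsProper (g ≫ q) := by rw [hg]; infer_instance
      haveI : IsProper g := IsProper.of_comp g q
      exact g.isClosedMap.isClosed_range
  -- every curve meets `H`
  have hmeet : ∀ (g : CohB1.ProjSpace 1 k ⟶ X), g ≫ q = CohB1.ProjSpace.toSpec 1 k → (Set.range ⇑g).Nontrivial →
      ∃ h ∈ H, IsClosed ({h} : Set X) ∧ h ∈ Set.range g := fun g hg hnt => by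
    have hne : (H ∩ Set.range g).Nonempty := by
      by_contra hc
      have hV : IsAffineOpen (CohB1.genLocus L s) := TMul.isAffineOpen_genLocus_of_universallyClosed q hL s
      obtain ⟨a, ha⟩ := FreeCurve.range_subset_of_affine g hg hV (fun z hz => by
        by_contra hzV
        exact hc ⟨z, hzV, hz⟩)
      exact hnt.not_subsingleton (Set.subsingleton_singleton.anti ha)
    obtain ⟨h, hh, hh'⟩ := nonempty_inter_closedPoints hne (hHc.inter (hcl g hg)).isLocallyClosed
    exact ⟨h, hh.1, hh', hh.2⟩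
  -- the components
  let K : Set (Set X) := {C | ∃ g : CohB1.ProjSpace 1 k ⟶ X, g ≫ q = CohB1.ProjSpace.toSpec 1 k ∧
    (Set.range ⇑g).Nontrivial ∧ Set.range ⇑g ⊆ H ∧ C = Set.range g}
  have hKfin : K.Finite := by
    haveI : NoetherianSpace X := inferInstance
    haveI : NoetherianSpace H := inferInstance
    refine ((NoetherianSpace.finite_irreducibleComponents (α := H)).image fun Z => Subtype.val '' Z).subset ?_
    rintro C ⟨g, hg, hnt, hgH, rfl⟩
    haveI : IsIntegral (CohB1.ProjSpace 1 k) := CurveP1.isIntegral k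
    have hη : IsGenericPoint (g (genericPoint (CohB1.ProjSpace 1 k))) (Set.range g) := by
      have h1 := (genericPoint_spec (CohB1.ProjSpace 1 k)).image g.continuous
      rwa [Set.image_univ, (hcl g hg).closure_eq] at h1
    set η := g (genericPoint (CohB1.ProjSpace 1 k))
    have hηc : ¬ IsClosed ({η} : Set X) := fun h => by
      rw [IsGenericPoint, h.closure_eq] at hη
      exact hnt.not_subsingleton (hη ▸ Set.subsingleton_singleton)
    let Z : Set H := Subtype.val ⁻¹' Set.range g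
    refine ⟨Z, ⟨?_, fun T hT hle => ?_⟩, by simp only [Z, Subtype.image_preimage_coe]; exact Set.inter_eq_right.2 hgH⟩
    · have e : Z = closure {(⟨η, hgH ⟨_, rfl⟩⟩ : H)} := by
        refine Eq.trans ?_ (hHc.isClosedEmbedding_subtypeVal.isInducing.closure_eq_preimage_closure_image _).symm
        rw [Set.image_singleton]
        exact congrArg (Subtype.val ⁻¹' ·) hη.def.symm
      rw [e]
      exact isIrreducible_singleton.closure
    · have hTi : IsIrreducible (Subtype.val '' T) := hT.image _ continuous_subtype_val.continuousOn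
      have hTH : closure (Subtype.val '' T) ⊆ H := closure_minimal (by rintro _ ⟨t, -, rfl⟩; exact t.2) hHc
      have hη' := hTi.isGenericPoint_genericPoint_closure
      have hsp : hTi.genericPoint ⤳ η := hη'.specializes (subset_closure ⟨⟨η, hgH ⟨_, rfl⟩⟩, hle ⟨_, rfl⟩, rfl⟩)
      have he := eq_of_specializes_surface hdim hsp hηc fun e => hgenH (e ▸ hTH hη'.mem)
      intro t ht
      show (t : X) ∈ Set.range g
      rw [← hη.def, ← he, hη'.def]
      exact subset_closure ⟨t, ht, rfl⟩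
  -- all closed points of `H` are equivalent
  have hconnH : ∀ a b, a ∈ H → b ∈ H → IsClosed ({a} : Set X) → IsClosed ({b} : Set X) → P a b := by
    intro a b ha hb hac hbc
    by_contra hab
    let A : Set X := ⋃ C ∈ {C ∈ K | ∀ c ∈ C, IsClosed ({c} : Set X) → P a c}, C
    let B : Set X := ⋃ C ∈ {C ∈ K | ¬ ∀ c ∈ C, IsClosed ({c} : Set X) → P a c}, C
    have hKc : ∀ C ∈ K, IsClosed C := fun C ⟨g, hg, _, _, e⟩ => e ▸ hcl g hg
    have hA : IsClosed A := (hKfin.subset fun C h => h.1).isClosed_biUnion fun C h => hKc C h.1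
    have hB : IsClosed B := (hKfin.subset fun C h => h.1).isClosed_biUnion fun C h => hKc C h.1
    have hin : ∀ C ∈ K, ∀ c ∈ C, ∀ c' ∈ C, IsClosed ({c} : Set X) → IsClosed ({c'} : Set X) → P c c' := by
      rintro C ⟨g, hg, -, -, rfl⟩ c hc c' hc' hcc hcc'
      exact ratEquiv_curve q hδ g hg hcc hcc' hc hc'
    have hcov : ∀ c ∈ H, IsClosed ({c} : Set X) → ∃ C ∈ K, c ∈ C := fun c hc hcc => by
      obtain ⟨g, hg, hnt, hcg, hgH⟩ := hrat c hc hcc
      exact ⟨_, ⟨g, hg, hnt, hgH, rfl⟩, hcg⟩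
    have hsub : H ⊆ A ∪ B := by
      rw [← hHc.closure_eq, ← JacobsonSpace.closure_inter_closedPoints_eq_closure hHc.isLocallyClosed]
      refine closure_minimal (fun c ⟨hc, hcc⟩ => ?_) (hA.union hB)
      obtain ⟨C, hC, hcC⟩ := hcov c hc hcc
      by_cases hCP : ∀ c ∈ C, IsClosed ({c} : Set X) → P a c
      · exact Or.inl (Set.mem_biUnion ⟨hC, hCP⟩ hcC)
      · exact Or.inr (Set.mem_biUnion ⟨hC, hCP⟩ hcC)
    have haA : a ∈ A := by
      obtain ⟨C, hC, hCa⟩ := hcov a ha hac
      exact Set.mem_biUnion ⟨hC, fun c hc hcc => hin C hC a hCa c hc hac hcc⟩ hCa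
    have hbB : b ∈ B := by
      obtain ⟨C, hC, hCb⟩ := hcov b hb hbc
      exact Set.mem_biUnion ⟨hC, fun h => hab (h b hCb hbc)⟩ hCb
    obtain ⟨z, hz, hzA, hzB⟩ := isPreconnected_closed_iff.1 hconn.isPreconnected A B hA hB hsub
      ⟨a, ha, haA⟩ ⟨b, hb, hbB⟩
    obtain ⟨c, ⟨⟨-, hcA⟩, hcB⟩, hcc⟩ := nonempty_inter_closedPoints (Z := H ∩ A ∩ B) ⟨z, ⟨hz, hzA⟩, hzB⟩
      ((hHc.inter hA).inter hB).isLocallyClosed
    obtain ⟨C, hC, hcC⟩ := Set.mem_iUnion₂.1 hcA
    obtain ⟨C', hC', hcC'⟩ := Set.mem_iUnion₂.1 hcB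
    exact hC'.2 fun c' hc' hcc' => htrans (hC.2 c hcC hcc) (hin C' hC'.1 c hcC' c' hc' hcc hcc')
  obtain ⟨g, hg, hgn, hxg⟩ := hxr
  obtain ⟨g', hg', hgn', hyg⟩ := hyr
  obtain ⟨a, ha, hac, hag⟩ := hmeet g hg hgn
  obtain ⟨b, hb, hbc, hbg⟩ := hmeet g' hg' hgn'
  exact htrans (ratEquiv_curve q hδ g hg hx hac hxg hag)
    (htrans (hconnH a b ha hb hac hbc) (ratEquiv_curve q hδ g' hg' hbc hy hbg hyg))

end Groth.Agent.RatCurveZero
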